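import Cfsg.Agent.Lib.LieBN.Exchange

/-! A descent predicate gives the exchange condition. -/

set_option autoImplicit false

namespace Cfsg.Lib.LieBN

variable {W : Type*} [Group W] {ι : Type*} {σ : ι → W}

theorem Exch.of_descent (hg : InvGen σ) (P : ι → W → Prop) (h1 : ∀ i, ¬ P i 1)
    (hflip : ∀ i w, P i (σ i * w) ↔ ¬ P i w)
    (hcross : ∀ i j w, ¬ P i w → P i (w * σ j) → σ i * w = w * σ j) : Exch σ := by
  classical
  have key : ∀ (i : ι) (L : List ι), P i (wprod σ L) →
      ∃ j < L.length, σ i * wprod σ L = wprod σ (L.eraseIdx j) := by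
    intro i L
    induction L using List.reverseRecOn with
    | nil => intro h; exact absurd (by simpa using h) (h1 i)
    | append_singleton L a ih =>
      intro h
      by_cases hL : P i (wprod σ L)
      · obtain ⟨j, hj, e⟩ := ih hL
        refine ⟨j, by simp; omega, ?_⟩
        rw [List.eraseIdx_append_of_lt_length hj, wprod_append, wprod_append, ← mul_assoc, e]
      · rw [wprod_append] at h
        have e := hcross i a _ hL (by simpa using h)
        refine ⟨L.length, by simp, ?_⟩
        rw [List.eraseIdx_append_of_length_le le_rfl, wprod_append, Nat.sub_self]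
        simp only [List.eraseIdx_cons_zero, List.append_nil, wprod_cons, wprod_nil, mul_one]
        rw [← mul_assoc, e, hg.mul_self_mul]
  have hlt : ∀ i w, P i w → wlen σ (σ i * w) < wlen σ w := by
    intro i w h
    obtain ⟨L, hL, rfl⟩ := hg.exists_reduced w
    obtain ⟨j, hj, e⟩ := key i L h
    rw [e, ← hL]
    refine lt_of_le_of_lt (wlen_le _) ?_
    rw [List.length_eraseIdx]
    split_ifs <;> omega
  have hlt' : ∀ i w, ¬ P i w → wlen σ w < wlen σ (σ i * w) := by
    intro i w h
    have := hlt i _ ((hflip i w).2 h)
    rwa [hg.mul_mul_self] at this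
  refine { toInvGen := hg, ne_one := fun i e => ?_, len_ne := fun i w => ?_, exch := fun i L hr hl => ?_ }
  · have h := (hflip i 1).2 (h1 i)
    rw [mul_one, e] at h
    exact h1 i h
  · by_cases h : P i w
    · exact (hlt i w h).ne
    · exact (hlt' i w h).ne'
  · refine key i L ?_
    by_contra h
    have := hlt' i _ h
    rw [← hr] at this
    omega

end Cfsg.Lib.LieBN
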